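import Groth.Agent.L02.CAlg.Tor.Vanish
import Mathlib.RingTheory.Localization.BaseChange
import Mathlib.Algebra.Module.Torsion.Basic
import Mathlib.RingTheory.Ideal.Quotient.Operations
import Mathlib.RingTheory.Flat.Localization
import Mathlib.LinearAlgebra.TensorProduct.Quotient
import Mathlib.RingTheory.Noetherian.Basic
import Mathlib.RingTheory.Flat.Equalizer
import Mathlib.RingTheory.Finiteness.Ideal
import Mathlib.LinearAlgebra.Basis.Defs

/-!
Flatness criteria through vanishing of Tor.
-/

set_option autoImplicit false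
universe u

open CategoryTheory CategoryTheory.Limits TensorProduct

namespace L02.CAlg.TorV

variable {A : Type u} [CommRing A] {M : Type u} [AddCommGroup M] [Module A M]

theorem van_of_subsingleton (Q : Type u) [AddCommGroup Q] [Module A Q] [Subsingleton Q] (i : ℕ) :
    Van A M Q i :=
  fun x _ => ⟨0, (Subsingleton.elim _ _)⟩

/-- Transfer of injectivity to the base change. -/
theorem rTensor_baseChange_injective (M : Type u) [AddCommGroup M] [Module A M] (B : Type u) [CommRing B]
    [Algebra A B] {P Q : Type u} [AddCommGroup P] [AddCommGroup Q]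
    [Module A P] [Module B P] [IsScalarTower A B P] [Module A Q] [Module B Q] [IsScalarTower A B Q]
    (f : P →ₗ[B] Q) (h : Function.Injective ((f.restrictScalars A).rTensor M)) :
    Function.Injective (f.rTensor (B ⊗[A] M)) := by
  let e₁ := AlgebraTensorModule.cancelBaseChange A B B P M
  let e₂ := AlgebraTensorModule.cancelBaseChange A B B Q M
  have hsq : ∀ v, (f.restrictScalars A).rTensor M (e₁ v) = e₂ (f.rTensor (B ⊗[A] M) v) := by
    intro v
    induction v using TensorProduct.induction_on with
    | zero => simp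
    | add a b ha hb => simp only [map_add, ha, hb]
    | tmul q y =>
      induction y using TensorProduct.induction_on with
      | zero => simp
      | add a b ha hb => simp only [TensorProduct.tmul_add, map_add, ha, hb]
      | tmul b m =>
        show f (b • q) ⊗ₜ[A] m = (b • f q) ⊗ₜ[A] m
        rw [map_smul]
  intro a b hab
  have := congrArg e₂ hab
  rw [← hsq, ← hsq] at this
  exact e₁.injective (h this)

/-- Modules killed by a power of `I`. -/
theorem van_of_pow_smul {I : Ideal A} [Module.Flat (A ⧸ I) ((A ⧸ I) ⊗[A] M)] {k : ℕ}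
    (h : ∀ j < k, Van A M (A ⧸ I) j) (n : ℕ) :
    ∀ (Q : Type u) [AddCommGroup Q] [Module A Q], (∀ a ∈ I ^ n, ∀ q : Q, a • q = 0) →
      ∀ j < k, Van A M Q j := by
  induction n with
  | zero =>
    intro Q _ _ hQ j _
    haveI : Subsingleton Q := ⟨fun x y => by
      rw [← one_smul A x, ← one_smul A y, hQ 1 (by simp), hQ 1 (by simp)]⟩
    exact van_of_subsingleton Q j
  | succ n ih =>
    intro Q _ _ hQ j hj
    let S : Submodule A Q := I • ⊤
    have hS : ∀ a ∈ I ^ n, ∀ q : S, a • q = 0 := by
      intro a ha q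
      refine Subtype.ext ?_
      show a • (q : Q) = 0
      refine Submodule.smul_induction_on q.2 (fun b hb x _ => ?_) fun x y hx hy => by rw [smul_add, hx, hy, add_zero]
      rw [smul_smul]
      exact hQ _ (by rw [pow_succ]; exact Ideal.mul_mem_mul ha hb) x
    have hq : Module.IsTorsionBySet A (Q ⧸ S) I := fun q a => by
      obtain ⟨q, rfl⟩ := Submodule.mkQ_surjective S q
      rw [← map_smul]
      exact (Submodule.Quotient.mk_eq_zero S).mpr (Submodule.smul_mem_smul a.2 trivial)
    letI : Module (A ⧸ I) (Q ⧸ S) := hq.module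
    haveI : IsScalarTower A (A ⧸ I) (Q ⧸ S) := hq.isScalarTower
    exact Van.middle (N' := ↥S) (show Function.Injective S.subtype from Subtype.val_injective)
      (Submodule.mkQ_surjective S) (LinearMap.exact_subtype_mkQ S) (ih S hS j hj)
      (van_of_algebra (A ⧸ I) h j hj (Q ⧸ S))

/-- Modules all of whose elements are killed by powers of the `f l`. -/
theorem van_of_torsion {r : ℕ} (f : Fin r → A)
    [Module.Flat (A ⧸ Ideal.span (Set.range f)) ((A ⧸ Ideal.span (Set.range f)) ⊗[A] M)] {k : ℕ}
    (h : ∀ j < k, Van A M (A ⧸ Ideal.span (Set.range f)) j)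
    (Q : Type u) [AddCommGroup Q] [Module A Q] (hQ : ∀ (q : Q) (l : Fin r), ∃ e : ℕ, f l ^ e • q = 0)
    (j : ℕ) (hj : j < k) : Van A M Q j := by
  refine van_of_forall_exists (κ := ULift.{u} ℕ)
    (fun n => Submodule.torsionBySet A Q ((Ideal.span (Set.range f) ^ n.down : Ideal A) : Set A))
    ?_ (fun q => ?_) fun n => ?_
  · refine Monotone.directed_le fun m n hmn x hx => ?_
    rw [Submodule.mem_torsionBySet_iff] at hx ⊢
    exact fun a => hx ⟨a.1, Ideal.pow_le_pow_right hmn a.2⟩
  · let ann : Ideal A := (Submodule.span A {q}).annihilator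
    obtain ⟨n, hn⟩ := Ideal.exists_pow_le_of_le_radical_of_fg (I := Ideal.span (Set.range f)) (J := ann) (by
      rw [Ideal.span_le]
      rintro _ ⟨l, rfl⟩
      obtain ⟨e, he⟩ := hQ q l
      exact ⟨e, (Submodule.mem_annihilator_span_singleton q _).mpr he⟩)
      (Submodule.fg_span (Set.finite_range f))
    refine ⟨⟨n⟩, ?_⟩
    rw [Submodule.mem_torsionBySet_iff]
    exact fun a => (Submodule.mem_annihilator_span_singleton q _).mp (hn a.2)
  · refine van_of_pow_smul h n.down _ (fun a ha q => ?_) j hj
    exact Subtype.ext ((Submodule.mem_torsionBySet_iff _ _).mp q.2 ⟨a, ha⟩)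

/-- The flatness criterion along `V(f₁, …, f_r)` and its complement. -/
theorem flat_of_away_of_mod {r : ℕ} (f : Fin r → A)
    (h1 : ∀ i, Module.Flat (Localization.Away (f i)) (LocalizedModule (Submonoid.powers (f i)) M))
    [Module.Flat (A ⧸ Ideal.span (Set.range f)) ((A ⧸ Ideal.span (Set.range f)) ⊗[A] M)]
    (h3 : ∀ j < r + 1, Van A M (A ⧸ Ideal.span (Set.range f)) j) : Module.Flat A M := by
  suffices H : ∀ (c j : ℕ), j + c = r → ∀ (Q : Type u) [AddCommGroup Q] [Module A Q],
      (∀ (q : Q) (l : Fin r), (l : ℕ) < j → ∃ e : ℕ, f l ^ e • q = 0) → ∀ i < j + 1, Van A M Q i by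
    exact flat_iff_van_quotient.mpr fun I _ =>
      H r 0 (Nat.zero_add r) (A ⧸ I) (fun q l hl => absurd hl (Nat.not_lt_zero _)) 0 Nat.one_pos
  intro c
  induction c with
  | zero =>
    intro j hj Q _ _ hQ i hi
    exact van_of_torsion f h3 Q (fun q l => hQ q l (by omega)) i (by omega)
  | succ c ih =>
    intro j hj Q _ _ hQ i hi
    have hjr : j < r := by omega
    let g := f ⟨j, hjr⟩
    let B := Localization.Away g
    let L := LocalizedModule (Submonoid.powers g) Q
    haveI : Module.Flat A B := IsLocalization.flat B (Submonoid.powers g)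
    haveI : Module.Flat B (LocalizedModule (Submonoid.powers g) M) := h1 ⟨j, hjr⟩
    haveI : Module.Flat B (B ⊗[A] M) := Module.Flat.of_linearEquiv
      (IsLocalizedModule.isBaseChange (Submonoid.powers g) B
        (LocalizedModule.mkLinearMap (Submonoid.powers g) M)).equiv
    let φ : Q →ₗ[A] L := LocalizedModule.mkLinearMap (Submonoid.powers g) Q
    have hL : ∀ (x : L) (l : Fin r), (l : ℕ) < j → ∃ e : ℕ, f l ^ e • x = 0 := by
      intro x l hl
      induction x using LocalizedModule.induction_on with
      | h q s =>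
        obtain ⟨e, he⟩ := hQ q l hl
        exact ⟨e, by rw [LocalizedModule.smul'_mk, he, LocalizedModule.zero_mk]⟩
    have hsplit : ∀ {P : Type u} [AddCommGroup P] [Module A P],
        (∀ (q : P) (l : Fin r), (l : ℕ) < j → ∃ e : ℕ, f l ^ e • q = 0) → (∀ q : P, ∃ e : ℕ, g ^ e • q = 0) →
        ∀ (q : P) (l : Fin r), (l : ℕ) < j + 1 → ∃ e : ℕ, f l ^ e • q = 0 := by
      intro P _ _ ha hb q l hl
      rcases Nat.lt_succ_iff_lt_or_eq.mp hl with hl | hl
      · exact ha q l hl
      · rw [show l = ⟨j, hjr⟩ from Fin.ext hl]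
        exact hb q
    have hK : ∀ i < j + 2, Van A M (LinearMap.ker φ) i := ih (j + 1) (by omega) _ (hsplit
      (fun q l hl => (hQ q.1 l hl).imp fun e he => Subtype.ext he) fun q => by
        obtain ⟨⟨_, e, rfl⟩, he⟩ :=
          (IsLocalizedModule.eq_zero_iff (Submonoid.powers g) φ).mp q.2
        exact ⟨e, Subtype.ext he⟩)
    have hC : ∀ i < j + 2, Van A M (L ⧸ LinearMap.range φ) i := ih (j + 1) (by omega) _ (hsplit
      (fun q l hl => by
        obtain ⟨q, rfl⟩ := Submodule.mkQ_surjective _ q
        exact (hL q l hl).imp fun e he => by rw [← map_smul, he, map_zero])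
      fun q => by
        obtain ⟨q, rfl⟩ := Submodule.mkQ_surjective _ q
        obtain ⟨⟨a, ⟨_, e, rfl⟩⟩, ha⟩ := IsLocalizedModule.surj (Submonoid.powers g) φ q
        refine ⟨e, ?_⟩
        rw [← map_smul]
        exact (Submodule.Quotient.mk_eq_zero _).mpr ⟨a, ha.symm⟩)
    have hLv : ∀ m, Van A M L m := fun m =>
      van_of_algebra B (k := m + 1) (fun p _ => van_of_flat_right B p) m (Nat.lt_succ_self m) L
    have hR : Van A M (LinearMap.range φ) i :=
      Van.left (N' := ↥(LinearMap.range φ)) (show Function.Injective (LinearMap.range φ).subtype from Subtype.val_injective)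
        (Submodule.mkQ_surjective _) (LinearMap.exact_subtype_mkQ _) (hLv i) (hC (i + 1) (by omega))
    exact Van.middle (N' := ↥(LinearMap.ker φ)) (show Function.Injective (LinearMap.ker φ).subtype from Subtype.val_injective)
      φ.surjective_rangeRestrict (show Function.Exact (LinearMap.ker φ).subtype φ.rangeRestrict from fun x =>
        ⟨fun hx => ⟨⟨x, congrArg Subtype.val hx⟩, rfl⟩, by rintro ⟨y, rfl⟩; exact Subtype.ext y.2⟩)
      (hK i (by omega)) hR

theorem van_quotient_zero_of_injective {I : Ideal A}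
    (htor : Function.Injective ((Submodule.subtype I).rTensor M)) : ∀ j < 1, Van A M (A ⧸ I) j := by
  intro j hj
  obtain rfl : j = 0 := by omega
  exact Van.right_zero (N' := ↥I) (show Function.Injective I.subtype from Subtype.val_injective)
    (Submodule.mkQ_surjective I) (LinearMap.exact_subtype_mkQ I) (van_of_flat_right A 0)
    ((LinearMap.lTensor_inj_iff_rTensor_inj M I.subtype).mpr htor)

theorem flat_of_isNilpotent {I : Ideal A} (hI : IsNilpotent I)
    [Module.Flat (A ⧸ I) ((A ⧸ I) ⊗[A] M)]
    (htor : Function.Injective ((Submodule.subtype I).rTensor M)) : Module.Flat A M := by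
  obtain ⟨n, hn⟩ := hI
  exact flat_iff_van_quotient.mpr fun J _ => van_of_pow_smul (van_quotient_zero_of_injective htor) n _
    (fun a ha q => by rw [hn, Ideal.zero_eq_bot, Ideal.mem_bot] at ha; rw [ha, zero_smul]) 0 Nat.one_pos

theorem flat_mod_pow {I : Ideal A} [Module.Flat (A ⧸ I) ((A ⧸ I) ⊗[A] M)]
    (htor : Function.Injective ((Submodule.subtype I).rTensor M)) (n : ℕ) :
    Module.Flat (A ⧸ I ^ n) ((A ⧸ I ^ n) ⊗[A] M) := by
  refine Module.Flat.iff_rTensor_injective.mpr fun {J} _ => rTensor_baseChange_injective M (A ⧸ I ^ n) J.subtype ?_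
  rw [← LinearMap.lTensor_inj_iff_rTensor_inj]
  refine Van.injective (N' := ↥J) (g := ((Submodule.restrictScalars A J).mkQ))
    (show Function.Injective (J.subtype.restrictScalars A) from Subtype.val_injective)
    (Submodule.mkQ_surjective _) (fun x => LinearMap.exact_subtype_mkQ (Submodule.restrictScalars A J) x) ?_
  refine van_of_pow_smul (van_quotient_zero_of_injective htor) n _ (fun a ha q => ?_) 0 Nat.one_pos
  obtain ⟨q, rfl⟩ := Submodule.mkQ_surjective _ q
  rw [← map_smul, Algebra.smul_def, show algebraMap A (A ⧸ I ^ n) a = 0 from Ideal.Quotient.eq_zero_iff_mem.mpr ha,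
    zero_mul, map_zero]

theorem eq_bot_of_le_smul {Q : Type u} [AddCommGroup Q] [Module A Q] {I : Ideal A} (hI : IsNilpotent I)
    {S : Submodule A Q} (h : ⊤ ≤ S ⊔ I • ⊤) : S = ⊤ := by
  obtain ⟨n, hn⟩ := hI
  have : ∀ k, (⊤ : Submodule A Q) ≤ S ⊔ I ^ k • ⊤ := by
    intro k
    induction k with
    | zero => simp
    | succ k ih =>
      refine h.trans (sup_le le_sup_left ((Submodule.smul_mono le_rfl ih).trans ?_))
      rw [Submodule.smul_sup, ← Submodule.mul_smul, ← pow_succ']
      exact sup_le_sup_right Submodule.smul_le_right _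
  have h' := this n
  rw [hn, Ideal.zero_eq_bot, Submodule.bot_smul, sup_bot_eq] at h'
  exact top_le_iff.mp h'

/-- A surjection onto a flat module, bijective modulo a nilpotent ideal, is bijective. -/
theorem bijective_of_mod_nilpotent [Module.Flat A M] {I : Ideal A} (hI : IsNilpotent I) {P : Type u}
    [AddCommGroup P] [Module A P] (φ : P →ₗ[A] M) (hb : Function.Bijective (φ.lTensor (A ⧸ I))) :
    Function.Bijective φ := by
  have hs : Function.Surjective φ := by
    rw [← LinearMap.range_eq_top]
    refine eq_bot_of_le_smul hI fun m _ => ?_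
    obtain ⟨y, hy⟩ := hb.2 ((Ideal.Quotient.mk I 1) ⊗ₜ[A] m)
    have hy' : ∃ p : P, (Ideal.Quotient.mk I 1) ⊗ₜ[A] p = y := by
      induction y using TensorProduct.induction_on generalizing m with
      | zero => exact ⟨0, TensorProduct.tmul_zero _ _⟩
      | tmul a p =>
        obtain ⟨a, rfl⟩ := Ideal.Quotient.mk_surjective a
        refine ⟨a • p, ?_⟩
        rw [TensorProduct.tmul_smul, TensorProduct.smul_tmul', Algebra.smul_def, Ideal.Quotient.algebraMap_eq,
          ← map_mul, mul_one]
      | add a b ha hb' =>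
        have e : ∀ z : (A ⧸ I) ⊗[A] P, ∃ p : P, (Ideal.Quotient.mk I 1) ⊗ₜ[A] p = z := by
          intro z
          obtain ⟨p, hp⟩ := TensorProduct.mk_surjective A P (A ⧸ I) Ideal.Quotient.mk_surjective z
          exact ⟨p, hp⟩
        exact e _
    obtain ⟨p, rfl⟩ := hy'
    rw [LinearMap.lTensor_tmul] at hy
    have h0 := congrArg (TensorProduct.quotTensorEquivQuotSMul M I) hy
    rw [TensorProduct.quotTensorEquivQuotSMul_mk_tmul, TensorProduct.quotTensorEquivQuotSMul_mk_tmul,
      one_smul, one_smul, Submodule.Quotient.eq] at h0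
    rw [show m = φ p - (φ p - m) by abel]
    exact sub_mem (Submodule.mem_sup_left ⟨p, rfl⟩) (Submodule.mem_sup_right h0)
  refine ⟨?_, hs⟩
  have hinj := LinearMap.lTensor_injective_of_exact_of_flat (P := M) φ hs (LinearMap.ker φ).subtype
    Subtype.val_injective (LinearMap.exact_subtype_ker_map φ) (A ⧸ I)
  have hz : ∀ v : (A ⧸ I) ⊗[A] LinearMap.ker φ, v = 0 := fun v => hinj <| hb.1 (by
    rw [map_zero, map_zero, ← LinearMap.lTensor_comp_apply,
      show φ ∘ₗ (LinearMap.ker φ).subtype = 0 from LinearMap.ext fun x => x.2, LinearMap.lTensor_zero,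
      LinearMap.zero_apply])
  have htop : (⊥ : Submodule A (LinearMap.ker φ)) = ⊤ := eq_bot_of_le_smul hI fun k _ => by
    have := congrArg (TensorProduct.quotTensorEquivQuotSMul _ I) (hz (Ideal.Quotient.mk I 1 ⊗ₜ[A] k))
    rw [TensorProduct.quotTensorEquivQuotSMul_mk_tmul, one_smul, map_zero, Submodule.Quotient.mk_eq_zero] at this
    exact Submodule.mem_sup_right this
  rw [← LinearMap.ker_eq_bot, eq_bot_iff]
  intro x hx
  have h1 : (⟨x, hx⟩ : LinearMap.ker φ) ∈ (⊥ : Submodule A (LinearMap.ker φ)) := by rw [htop]; trivial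
  exact congrArg Subtype.val ((Submodule.mem_bot A).mp h1)

end L02.CAlg.TorV

namespace L02.CAlg.TorV

/-- Bases lift along a nilpotent thickening. -/
theorem basis_of_mod_nilpotent {A : Type u} [CommRing A] {M : Type u} [AddCommGroup M] [Module A M]
    [Module.Flat A M] {I : Ideal A} (hI : IsNilpotent I) {ι : Type u} (x : ι → M)
    (hli : LinearIndependent (A ⧸ I) (fun a => (1 : A ⧸ I) ⊗ₜ[A] x a))
    (hsp : Submodule.span (A ⧸ I) (Set.range fun a => (1 : A ⧸ I) ⊗ₜ[A] x a) = ⊤) :
    LinearIndependent A x ∧ Submodule.span A (Set.range x) = ⊤ := by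
  classical
  let φ : (ι →₀ A) →ₗ[A] M := Finsupp.linearCombination A x
  let b := Module.Basis.mk hli hsp.ge
  let e₁ := TensorProduct.finsuppScalarRight A (A ⧸ I) (A ⧸ I) ι
  have hcomm : ∀ v, φ.lTensor (A ⧸ I) v = b.repr.symm (e₁ v) := by
    intro v
    induction v using TensorProduct.induction_on with
    | zero => simp
    | add v w hv hw => simp only [map_add, hv, hw]
    | tmul c p =>
      induction p using Finsupp.induction_linear with
      | zero => simp
      | add p q hp hq => simp only [TensorProduct.tmul_add, map_add, hp, hq]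
      | single a r =>
        simp [φ, e₁, b, TensorProduct.finsuppScalarRight_apply_tmul, TensorProduct.smul_tmul', TensorProduct.tmul_smul, Algebra.smul_def, mul_comm]
  have hb : Function.Bijective (φ.lTensor (A ⧸ I)) := by
    rw [show ⇑(φ.lTensor (A ⧸ I)) = fun v => b.repr.symm (e₁ v) from funext hcomm]
    exact b.repr.symm.bijective.comp e₁.bijective
  obtain ⟨hinj, hsurj⟩ := bijective_of_mod_nilpotent hI φ hb
  refine ⟨hinj, ?_⟩
  rw [← Finsupp.range_linearCombination, LinearMap.range_eq_top]
  exact hsurj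

end L02.CAlg.TorV
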