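import Groth.Agent.L07.DiagRes
import Mathlib.RingTheory.Finiteness.Basic
import Mathlib.RingTheory.TensorProduct.Finite

/-!
Tor of finite modules over a Noetherian ring is finite.
-/

set_option autoImplicit false
set_option maxSynthPendingDepth 3
universe u

open CategoryTheory CategoryTheory.Limits TensorProduct Groth.L07.DiagRes

namespace L02.CAlg.TorV

theorem finite_homology {A : Type u} [CommRing A] [IsNoetherianRing A]
    (K : ChainComplex (ModuleCat.{u} A) ℕ) (p : ℕ) [Module.Finite A (K.X p)] : Module.Finite A (K.homology p) := by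
  haveI : Module.Finite A (K.cycles p) :=
    Module.Finite.of_injective (K.iCycles p).hom (Groth.L28.HomElt.iCycles_injective K p)
  exact Module.Finite.of_surjective (K.homologyπ p).hom (Groth.L28.HomElt.homologyπ_surjective K p)

theorem finite_tor {A : Type u} [CommRing A] [IsNoetherianRing A] (M N : Type u) [AddCommGroup M] [Module A M]
    [AddCommGroup N] [Module A N] [Module.Finite A M] [Module.Finite A N] (p : ℕ) :
    Module.Finite A (((CategoryTheory.Tor (ModuleCat.{u} A) p).obj (ModuleCat.of A M)).obj (ModuleCat.of A N)) := by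
  let X : ℕ → ModuleCat.{u} A := fun j => ModuleCat.of A (F (E := A) M j)
  let D : ∀ j, X (j + 1) ⟶ X j := fun j => ModuleCat.ofHom (d (E := A) M j)
  have hdd : ∀ j, d (E := A) M j ∘ₗ d M (j + 1) = 0 := fun j => by
    refine LinearMap.ext fun x => ?_
    have : d (E := A) M (j + 1) x ∈ LinearMap.ker (d (E := A) M j) := by
      rw [ker_d, ← range_d]; exact ⟨x, rfl⟩
    exact this
  let P : ChainComplex (ModuleCat.{u} A) ℕ := ChainComplex.of X D (fun j => ModuleCat.hom_ext
    (LinearMap.ext fun x => LinearMap.congr_fun (hdd j) x))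
  have hd : ∀ j, P.d (j + 1) j = D j := fun j => ChainComplex.of_d X D j
  have hP : Groth.L28.Balance.IsRes P (ModuleCat.ofHom (eps (E := A) M) : P.X 0 ⟶ ModuleCat.of A M) := by
    refine ⟨eps_surjective M, ?_, fun j => ?_, fun j => ?_⟩
    · rw [hd]
      show Function.Exact (d (E := A) M 0) (eps (E := A) M)
      exact LinearMap.exact_iff.mpr ((ker_eps (E := A) M).trans (range_d M 0).symm)
    · rw [hd, hd]
      exact LinearMap.exact_iff.mpr ((ker_d M j).trans (range_d M (j + 1)).symm)
    · exact (Module.Flat.of_free : Module.Flat A (F (E := A) M j))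
  obtain ⟨e⟩ := Groth.L28.TorFacts.nonempty_iso_left (N := ModuleCat.of A N) P _ hP p
  let K := ((MonoidalCategory.tensorRight (ModuleCat.of A N)).mapHomologicalComplex (ComplexShape.down ℕ)).obj P
  haveI : Module.Finite A (K.X p) := inferInstanceAs (Module.Finite A (F (E := A) M p ⊗[A] N))
  haveI := finite_homology K p
  exact Module.Finite.equiv e.toLinearEquiv.symm

end L02.CAlg.TorV
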