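import Groth.Agent.L02.CAlg.Tor.Criteria
import Mathlib.RingTheory.Flat.Stability
import Mathlib.LinearAlgebra.TensorProduct.Quotient

/-!
Flatness from flatness modulo an ideal and after an injective base change.
-/

set_option autoImplicit false
universe u

open TensorProduct

namespace L02.CAlg.TorV

variable {A : Type u} [CommRing A] (M : Type u) [AddCommGroup M] [Module A M]

theorem rTensor_injective_of_flat_baseChange (B : Type u) [CommRing B] [Algebra A B]
    [Module.Flat B (B ⊗[A] M)] {P Q : Type u} [AddCommGroup P] [AddCommGroup Q]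
    [Module A P] [Module B P] [IsScalarTower A B P] [Module A Q] [Module B Q] [IsScalarTower A B Q]
    (f : P →ₗ[B] Q) (hf : Function.Injective f) : Function.Injective ((f.restrictScalars A).rTensor M) := by
  let e₁ := AlgebraTensorModule.cancelBaseChange A B B P M
  let e₂ := AlgebraTensorModule.cancelBaseChange A B B Q M
  have hsq : ∀ v, (f.restrictScalars A).rTensor M (e₁ v) = e₂ (f.rTensor (B ⊗[A] M) v) := by
    intro v
    induction v using TensorProduct.induction_on with
    | zero => simp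
    | add a b ha hb => simp only [map_add, ha, hb]
    | tmul q y =>
      induction y using TensorProduct.induction_on with
      | zero => simp
      | add a b ha hb => simp only [TensorProduct.tmul_add, map_add, ha, hb]
      | tmul b m =>
        show f (b • q) ⊗ₜ[A] m = (b • f q) ⊗ₜ[A] m
        rw [map_smul]
  intro a b hab
  obtain ⟨a, rfl⟩ := e₁.surjective a
  obtain ⟨b, rfl⟩ := e₁.surjective b
  rw [hsq, hsq] at hab
  rw [Module.Flat.rTensor_preserves_injective_linearMap f hf (e₂.injective hab)]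

theorem flat_of_sq_eq_bot (R' : Type u) [CommRing R'] [Algebra A R']
    (hinj : Function.Injective (algebraMap A R')) {I : Ideal A} (hI : I * I = ⊥)
    [Module.Flat (A ⧸ I) ((A ⧸ I) ⊗[A] M)] [Module.Flat R' (R' ⊗[A] M)] : Module.Flat A M := by
  let J : Ideal R' := I.map (algebraMap A R')
  let ι : I →ₗ[A] J :=
    { toFun := fun x => ⟨algebraMap A R' x, Ideal.mem_map_of_mem _ x.2⟩
      map_add' := fun x y => Subtype.ext (map_add _ _ _)
      map_smul' := fun a x => Subtype.ext (by simp [Algebra.smul_def]) }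
  have hιi : Function.Injective ι := fun x y h => Subtype.ext (hinj (congrArg Subtype.val h))
  have hz0 : ∀ a ∈ I, ∀ b ∈ I, a * b = 0 := fun a ha b hb => by
    have h := Ideal.mul_mem_mul ha hb
    rwa [hI, Ideal.mem_bot] at h
  have h1 : Module.IsTorsionBySet A I I := fun x a => Subtype.ext (hz0 _ a.2 _ x.2)
  have h2 : Module.IsTorsionBySet A J I := fun x a => by
    refine Subtype.ext ?_
    show (a : A) • (x : R') = 0
    have hz : ∀ y ∈ J, (algebraMap A R' (a : A)) * y = 0 := by
      intro y hy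
      induction hy using Submodule.span_induction with
      | mem z hz =>
        obtain ⟨b, hb, rfl⟩ := hz
        rw [← map_mul, hz0 _ a.2 _ hb, map_zero]
      | zero => exact mul_zero _
      | add z w _ _ hz hw => rw [mul_add, hz, hw, add_zero]
      | smul c z _ hz => rw [smul_eq_mul, mul_left_comm, hz, mul_zero]
    rw [Algebra.smul_def]
    exact hz _ x.2
  letI : Module (A ⧸ I) I := h1.module
  haveI : IsScalarTower A (A ⧸ I) I := h1.isScalarTower
  letI : Module (A ⧸ I) J := h2.module
  haveI : IsScalarTower A (A ⧸ I) J := h2.isScalarTower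
  let ιB : I →ₗ[A ⧸ I] J :=
    { toFun := ι
      map_add' := fun x y => map_add ι x y
      map_smul' := fun c x => by
        obtain ⟨a, rfl⟩ := Ideal.Quotient.mk_surjective c
        exact map_smul ι a x }
  have e1 := rTensor_injective_of_flat_baseChange (A := A) M (A ⧸ I) (P := ↥I) (Q := ↥J) ιB hιi
  have e2 := rTensor_injective_of_flat_baseChange (A := A) M R' J.subtype Subtype.val_injective
  refine flat_of_isNilpotent ⟨2, (pow_two I).trans hI⟩ ?_
  have e3 : ((Algebra.linearMap A R').rTensor M) ∘ₗ ((Submodule.subtype I).rTensor M) =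
      ((J.subtype.restrictScalars A).rTensor M) ∘ₗ ((ιB.restrictScalars A).rTensor M) := by
    rw [← LinearMap.rTensor_comp, ← LinearMap.rTensor_comp]
    rfl
  refine Function.Injective.of_comp (f := (Algebra.linearMap A R').rTensor M) ?_
  rw [← LinearMap.coe_comp, e3, LinearMap.coe_comp]
  exact e2.comp e1

theorem flat_quotient_comap_sq (R' : Type u) [CommRing R'] [Algebra A R'] (I : Ideal A)
    [Module.Flat (A ⧸ I) ((A ⧸ I) ⊗[A] M)] [Module.Flat R' (R' ⊗[A] M)] :
    Module.Flat (A ⧸ ((I ^ 2).map (algebraMap A R')).comap (algebraMap A R'))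
      ((A ⧸ ((I ^ 2).map (algebraMap A R')).comap (algebraMap A R')) ⊗[A] M) := by
  let K : Ideal R' := (I ^ 2).map (algebraMap A R')
  let I₂ : Ideal A := K.comap (algebraMap A R')
  let A₁ := A ⧸ I₂
  let R₁ := R' ⧸ K
  letI : Algebra A₁ R₁ := (Ideal.quotientMap K (algebraMap A R') le_rfl).toAlgebra
  haveI : IsScalarTower A A₁ R₁ := IsScalarTower.of_algebraMap_eq fun a => rfl
  let I₁ : Ideal A₁ := I.map (Ideal.Quotient.mk I₂)
  have hI₁ : I₁ * I₁ = ⊥ := by
    rw [← Ideal.map_mul, eq_bot_iff, Ideal.map_le_iff_le_comap]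
    intro x hx
    rw [Ideal.mem_comap, Ideal.mem_bot, Ideal.Quotient.eq_zero_iff_mem]
    exact Ideal.mem_map_of_mem _ (by rwa [pow_two])
  let C := A₁ ⧸ I₁
  letI : Algebra (A ⧸ I) C := (Ideal.Quotient.lift I (algebraMap A C) fun a ha => by
    show Ideal.Quotient.mk I₁ (Ideal.Quotient.mk I₂ a) = 0
    exact Ideal.Quotient.eq_zero_iff_mem.mpr (Ideal.mem_map_of_mem _ ha)).toAlgebra
  haveI : IsScalarTower A (A ⧸ I) C := IsScalarTower.of_algebraMap_eq fun a => rfl
  haveI hC : Module.Flat C (C ⊗[A] M) := Module.Flat.of_linearEquiv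
    (AlgebraTensorModule.cancelBaseChange A (A ⧸ I) C C M).symm
  haveI : Module.Flat C (C ⊗[A₁] (A₁ ⊗[A] M)) := Module.Flat.of_linearEquiv
    (AlgebraTensorModule.cancelBaseChange A A₁ C C M)
  haveI hR : Module.Flat R₁ (R₁ ⊗[A] M) := Module.Flat.of_linearEquiv
    (AlgebraTensorModule.cancelBaseChange A R' R₁ R₁ M).symm
  haveI : Module.Flat R₁ (R₁ ⊗[A₁] (A₁ ⊗[A] M)) := Module.Flat.of_linearEquiv
    (AlgebraTensorModule.cancelBaseChange A A₁ R₁ R₁ M)
  exact flat_of_sq_eq_bot (A₁ ⊗[A] M) R₁ Ideal.quotientMap_injective hI₁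

theorem flat_of_injective_of_nilpotent (R' : Type u) [CommRing R'] [Algebra A R']
    (hinj : Function.Injective (algebraMap A R')) {I : Ideal A} (hI : IsNilpotent I)
    [Module.Flat (A ⧸ I) ((A ⧸ I) ⊗[A] M)] [Module.Flat R' (R' ⊗[A] M)] : Module.Flat A M := by
  obtain ⟨n, hn⟩ := hI
  have key : ∀ k, ∃ J : Ideal A, J ≤ ((I ^ (2 ^ k)).map (algebraMap A R')).comap (algebraMap A R') ∧
      Module.Flat (A ⧸ J) ((A ⧸ J) ⊗[A] M) := by
    intro k
    induction k with
    | zero => exact ⟨I, by rw [pow_zero, pow_one]; exact Ideal.le_comap_map, inferInstance⟩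
    | succ k ih =>
      obtain ⟨J, hJ, hfl⟩ := ih
      haveI := hfl
      refine ⟨_, ?_, flat_quotient_comap_sq M R' J⟩
      refine Ideal.comap_mono ?_
      rw [show 2 ^ (k + 1) = 2 ^ k * 2 from pow_succ 2 k, pow_mul, Ideal.map_pow, Ideal.map_pow]
      exact Ideal.pow_right_mono (Ideal.map_le_iff_le_comap.mpr hJ) 2
  obtain ⟨J, hJ, hfl⟩ := key n
  have hJ0 : J = ⊥ := by
    rw [eq_bot_iff]
    intro x hx
    have h2 : I ^ 2 ^ n = ⊥ := by
      rw [eq_bot_iff]
      exact (Ideal.pow_le_pow_right (Nat.lt_two_pow_self).le).trans (by rw [hn, Ideal.zero_eq_bot])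
    have := hJ hx
    rw [h2, Ideal.map_bot, Ideal.mem_comap, Ideal.mem_bot] at this
    exact (Ideal.mem_bot).mpr (hinj (this.trans (map_zero _).symm))
  subst hJ0
  haveI := hfl
  refine flat_of_isNilpotent (I := (⊥ : Ideal A)) ⟨1, by rw [pow_one, Ideal.zero_eq_bot]⟩ ?_
  intro a b _
  haveI : Subsingleton (↥(⊥ : Ideal A) ⊗[A] M) := by
    refine ⟨fun a b => ?_⟩
    have : ∀ v : ↥(⊥ : Ideal A) ⊗[A] M, v = 0 := fun v => by
      induction v using TensorProduct.induction_on with
      | zero => rfl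
      | tmul x m => rw [Subsingleton.elim x 0, TensorProduct.zero_tmul]
      | add x y hx hy => rw [hx, hy, add_zero]
    rw [this a, this b]
  exact Subsingleton.elim a b

end L02.CAlg.TorV
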