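import Groth.Agent.L02.CAlg.Tor.Criteria
import Mathlib.RingTheory.Idempotents
import Mathlib.LinearAlgebra.TensorProduct.Pi
import Mathlib.RingTheory.Finiteness.Projective
import Mathlib.RingTheory.Noetherian.Nilpotent

/-!
Lifting projective modules along nilpotent and nil ideals.
-/

set_option autoImplicit false
universe u

open TensorProduct

namespace L02.CAlg.TorV

variable {A : Type u} [CommRing A] (I : Ideal A) (F : Type u) [AddCommGroup F] [Module A F]

/-- Reduction of endomorphisms. -/
noncomputable def endMap : Module.End A F →+* Module.End (A ⧸ I) ((A ⧸ I) ⊗[A] F) where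
  toFun φ := φ.baseChange (A ⧸ I)
  map_one' := LinearMap.baseChange_id
  map_mul' := LinearMap.baseChange_mul
  map_zero' := LinearMap.baseChange_zero
  map_add' := LinearMap.baseChange_add

theorem endMap_surjective [Module.Projective A F] : Function.Surjective (endMap I F) := by
  intro ψ
  let mk : F →ₗ[A] (A ⧸ I) ⊗[A] F := TensorProduct.mk A (A ⧸ I) F 1
  have hmk : Function.Surjective mk := TensorProduct.mk_surjective A F (A ⧸ I) Ideal.Quotient.mk_surjective
  obtain ⟨φ, hφ⟩ := Module.projective_lifting_property mk ((ψ.restrictScalars A) ∘ₗ mk) hmk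
  refine ⟨φ, LinearMap.ext fun x => ?_⟩
  obtain ⟨m, rfl⟩ := hmk x
  show φ.baseChange (A ⧸ I) ((1 : A ⧸ I) ⊗ₜ[A] m) = _
  rw [LinearMap.baseChange_tmul]
  exact LinearMap.congr_fun hφ m

variable {F}

theorem apply_mem_of_endMap_eq_zero {φ : Module.End A F} (h : endMap I F φ = 0) (m : F) :
    φ m ∈ I • (⊤ : Submodule A F) := by
  have h1 := congrArg (TensorProduct.quotTensorEquivQuotSMul F I)
    (LinearMap.congr_fun h (Ideal.Quotient.mk I 1 ⊗ₜ[A] m))
  change TensorProduct.quotTensorEquivQuotSMul F I (φ.baseChange (A ⧸ I) _) = _ at h1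
  rw [LinearMap.baseChange_tmul, TensorProduct.quotTensorEquivQuotSMul_mk_tmul, one_smul,
    LinearMap.zero_apply, map_zero, Submodule.Quotient.mk_eq_zero] at h1
  exact h1

theorem isNilpotent_of_apply_mem {J : Ideal A} (hJ : IsNilpotent J) {φ : Module.End A F}
    (h : ∀ m, φ m ∈ J • (⊤ : Submodule A F)) : IsNilpotent φ := by
  obtain ⟨n, hn⟩ := hJ
  have hk : ∀ k m, (φ ^ k) m ∈ J ^ k • (⊤ : Submodule A F) := by
    intro k
    induction k with
    | zero => intro m; simp
    | succ k ih =>
      intro m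
      rw [show (φ ^ (k + 1)) m = φ ((φ ^ k) m) by rw [pow_succ']; rfl]
      have h1 := Submodule.mem_map_of_mem (f := φ) (ih m)
      rw [Submodule.map_smul''] at h1
      have h2 : Submodule.map φ ⊤ ≤ J • (⊤ : Submodule A F) := by
        rintro _ ⟨x, -, rfl⟩; exact h x
      have h3 := Submodule.smul_mono (le_refl (J ^ k)) h2 h1
      rw [← Submodule.mul_smul, ← pow_succ] at h3
      exact h3
  refine ⟨n, LinearMap.ext fun m => ?_⟩
  have := hk n m
  rwa [hn, Ideal.zero_eq_bot, Submodule.bot_smul, Submodule.mem_bot] at this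

variable {I}

/-- A projective module over the quotient, cut out of the reduction of a projective module `F`, lifts. -/
theorem exists_lift_of_retract [Module.Projective A F]
    (hnil : ∀ φ : Module.End A F, endMap I F φ = 0 → IsNilpotent φ)
    {Q : Type u} [AddCommGroup Q] [Module (A ⧸ I) Q] (p : (A ⧸ I) ⊗[A] F →ₗ[A ⧸ I] Q)
    (s : Q →ₗ[A ⧸ I] (A ⧸ I) ⊗[A] F) (hps : ∀ q, p (s q) = q) :
    ∃ (P : Submodule A F) (π : F →ₗ[A] P), (∀ x : P, π x = x) ∧
      Function.Bijective (p ∘ₗ P.subtype.baseChange (A ⧸ I)) := by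
  let ψ : Module.End (A ⧸ I) ((A ⧸ I) ⊗[A] F) := s ∘ₗ p
  have hψ : IsIdempotentElem ψ := LinearMap.ext fun x => by
    show s (p (s (p x))) = s (p x)
    rw [hps]
  obtain ⟨φ, hφ⟩ := endMap_surjective I F ψ
  obtain ⟨e, he, hee⟩ := exists_isIdempotentElem_eq_of_ker_isNilpotent (endMap I F)
    (fun φ hφ => hnil φ (RingHom.mem_ker.mp hφ)) ψ ⟨φ, hφ⟩ hψ
  refine ⟨LinearMap.range e, e.rangeRestrict, ?_, ?_⟩
  · rintro ⟨_, m, rfl⟩
    refine Subtype.ext ?_
    show e (e m) = e m
    rw [← Module.End.mul_apply, he.eq]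
  · have h1 : ∀ v, (LinearMap.range e).subtype.baseChange (A ⧸ I) (e.rangeRestrict.baseChange (A ⧸ I) v) = s (p v) := by
      intro v
      rw [← LinearMap.comp_apply, ← LinearMap.baseChange_comp]
      exact LinearMap.congr_fun hee v
    have h2 : ∀ w, e.rangeRestrict.baseChange (A ⧸ I) ((LinearMap.range e).subtype.baseChange (A ⧸ I) w) = w := by
      intro w
      rw [← LinearMap.comp_apply, ← LinearMap.baseChange_comp,
        show e.rangeRestrict ∘ₗ (LinearMap.range e).subtype = LinearMap.id from LinearMap.ext fun x => by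
          obtain ⟨_, m, rfl⟩ := x
          refine Subtype.ext ?_
          show e (e m) = e m
          rw [← Module.End.mul_apply, he.eq],
        LinearMap.baseChange_id, LinearMap.id_apply]
    constructor
    · intro a b hab
      have h3 := congrArg s hab
      simp only [LinearMap.comp_apply] at h3
      rw [← h1, ← h1, h2, h2] at h3
      have h4 := congrArg (e.rangeRestrict.baseChange (A ⧸ I)) h3
      rwa [h2, h2] at h4
    · intro q
      refine ⟨e.rangeRestrict.baseChange (A ⧸ I) (s q), ?_⟩
      rw [LinearMap.comp_apply, h1, hps, hps]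

/-- A flat module which is projective modulo a nilpotent ideal is projective. -/
theorem projective_of_mod_nilpotent (hI : IsNilpotent I) (M : Type u) [AddCommGroup M] [Module A M]
    [Module.Flat A M] [Module.Projective (A ⧸ I) ((A ⧸ I) ⊗[A] M)] : Module.Projective A M := by
  let g : (M →₀ A) →ₗ[A] M := Finsupp.linearCombination A _root_.id
  have hg : Function.Surjective g := Finsupp.linearCombination_id_surjective A M
  have hgb : Function.Surjective (g.baseChange (A ⧸ I)) := by
    rw [LinearMap.baseChange_eq_ltensor]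
    exact LinearMap.lTensor_surjective _ hg
  obtain ⟨s, hs⟩ := Module.projective_lifting_property (g.baseChange (A ⧸ I)) LinearMap.id hgb
  obtain ⟨P, π, hπ, hbij⟩ := exists_lift_of_retract (I := I) (F := M →₀ A)
    (fun φ hφ => isNilpotent_of_apply_mem hI (apply_mem_of_endMap_eq_zero I hφ)) (g.baseChange (A ⧸ I)) s
    (fun q => LinearMap.congr_fun hs q)
  haveI : Module.Projective A P := Module.Projective.of_split P.subtype π (LinearMap.ext hπ)
  have hbij' : Function.Bijective ((g ∘ₗ P.subtype).lTensor (A ⧸ I)) := by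
    rw [← LinearMap.baseChange_eq_ltensor, LinearMap.baseChange_comp]
    exact hbij
  have h : Function.Bijective (g ∘ₗ P.subtype : ↥P →ₗ[A] M) :=
    @bijective_of_mod_nilpotent A _ M _ _ _ I hI ↥P P.addCommGroup P.module (g ∘ₗ P.subtype) hbij'
  exact Module.Projective.of_equiv (LinearEquiv.ofBijective _ h)

/-- Finite projective modules lift along nil ideals. -/
theorem exists_projective_lift (hI : ∀ x ∈ I, IsNilpotent x) (Q : Type u) [AddCommGroup Q]
    [Module (A ⧸ I) Q] [Module.Projective (A ⧸ I) Q] [Module.Finite (A ⧸ I) Q] :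
    ∃ (P : Type u) (_ : AddCommGroup P) (_ : Module A P), Module.Projective A P ∧ Module.Finite A P ∧
      Nonempty (((A ⧸ I) ⊗[A] P) ≃ₗ[A ⧸ I] Q) := by
  classical
  obtain ⟨n, f, g, -, -, hfg⟩ := Module.Finite.exists_comp_eq_id_of_projective (A ⧸ I) Q
  let π := TensorProduct.piScalarRight A (A ⧸ I) (A ⧸ I) (Fin n)
  have hnil : ∀ φ : Module.End A (Fin n → A), endMap I (Fin n → A) φ = 0 → IsNilpotent φ := by
    intro φ hφ
    have hc : ∀ j i, φ (Pi.single j 1) i ∈ I := fun j i => by
      have h1 := Submodule.mem_map_of_mem (f := (LinearMap.proj i : (Fin n → A) →ₗ[A] A))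
        (apply_mem_of_endMap_eq_zero I hφ (Pi.single j 1))
      rw [Submodule.map_smul''] at h1
      have h2 := Submodule.smul_mono (le_refl I) le_top h1
      rwa [smul_eq_mul, Ideal.mul_top] at h2
    let J : Ideal A := Ideal.span (Set.range fun ji : Fin n × Fin n => φ (Pi.single ji.1 1) ji.2)
    refine isNilpotent_of_apply_mem (J := J) ?_ fun m => ?_
    · refine (Ideal.FG.isNilpotent_iff_le_nilradical (Submodule.fg_span (Set.finite_range _))).mpr ?_
      rw [Ideal.span_le]
      rintro _ ⟨⟨j, i⟩, rfl⟩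
      exact mem_nilradical.mpr (hI _ (hc j i))
    · rw [pi_eq_sum_univ' m, map_sum]
      refine sum_mem fun j _ => ?_
      rw [map_smul, pi_eq_sum_univ' (φ _), Finset.smul_sum]
      refine sum_mem fun i _ => Submodule.smul_mem _ _ (Submodule.smul_mem_smul ?_ trivial)
      exact Ideal.subset_span ⟨(j, i), rfl⟩
  obtain ⟨P, pr, hpr, hbij⟩ := exists_lift_of_retract (I := I) (F := Fin n → A) hnil
    (f ∘ₗ π.toLinearMap) (π.symm.toLinearMap ∘ₗ g) (fun q => by
      show f (π (π.symm (g q))) = q
      rw [LinearEquiv.apply_symm_apply]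
      exact LinearMap.congr_fun hfg q)
  haveI : Module.Projective A P := Module.Projective.of_split P.subtype pr (LinearMap.ext hpr)
  exact ⟨P, inferInstance, inferInstance, inferInstance,
    Module.Finite.of_surjective pr (fun x => ⟨x, hpr x⟩), ⟨LinearEquiv.ofBijective _ hbij⟩⟩

end L02.CAlg.TorV
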