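import Groth.Agent.L28.TorFacts
import Mathlib.Algebra.Category.ModuleCat.Projective
import Mathlib.RingTheory.Flat.Tensor
import Mathlib.LinearAlgebra.DirectSum.Finsupp
import Mathlib.LinearAlgebra.TensorProduct.Tower

/-!
Vanishing of Tor, as exactness on elements of a resolution.
-/

set_option autoImplicit false
universe u

open CategoryTheory CategoryTheory.Limits MonoidalCategory TensorProduct

namespace L02.CAlg.TorV

variable {A : Type u} [CommRing A] (M : Type u) [AddCommGroup M] [Module A M]

/-- The terms of the resolution. -/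
abbrev X (j : ℕ) : Type u := (projectiveResolution (ModuleCat.of A M)).complex.X j

/-- The differentials. -/
noncomputable def d (j : ℕ) : X (A := A) M (j + 1) →ₗ[A] X (A := A) M j :=
  ((projectiveResolution (ModuleCat.of A M)).complex.d (j + 1) j).hom

/-- The augmentation. -/
noncomputable def eps : X (A := A) M 0 →ₗ[A] M :=
  ((projectiveResolution (ModuleCat.of A M)).π.f 0).hom

theorem isRes : Groth.L28.Balance.IsRes (projectiveResolution (ModuleCat.of A M)).complex
    ((projectiveResolution (ModuleCat.of A M)).π.f 0) :=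
  Groth.L28.Balance.isRes_projectiveResolution _

theorem eps_surjective : Function.Surjective (eps (A := A) M) := (isRes M).surj

theorem exact_eps : Function.Exact (d (A := A) M 0) (eps (A := A) M) := (isRes M).exact₀

instance flat_X (j : ℕ) : Module.Flat A (X (A := A) M j) := (isRes M).flat j

variable (N : Type u) [AddCommGroup N] [Module A N]

/-- `Tor_{i+1}(M, N) = 0`. -/
def Van (A : Type u) [CommRing A] (M : Type u) [AddCommGroup M] [Module A M] (N : Type u)
    [AddCommGroup N] [Module A N] (i : ℕ) : Prop :=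
  ∀ x : X (A := A) M (i + 1) ⊗[A] N, (d (A := A) M i).rTensor N x = 0 →
    ∃ z, (d (A := A) M (i + 1)).rTensor N z = x

theorem isZero_tor_iff (i : ℕ) :
    IsZero (((CategoryTheory.Tor (ModuleCat.{u} A) (i + 1)).obj (ModuleCat.of A M)).obj (ModuleCat.of A N)) ↔
      Van A M N i := by
  obtain ⟨e⟩ := Groth.L28.TorFacts.nonempty_iso_left (M := ModuleCat.of A M) (N := ModuleCat.of A N)
    _ _ (isRes (A := A) M) (i + 1)
  rw [e.isZero_iff, Groth.L28.HomElt.isZero_homology_iff (i := i + 2) (k := i)
    ((ComplexShape.down ℕ).prev_eq' rfl) ((ComplexShape.down ℕ).next_eq' rfl)]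
  exact Iff.rfl

variable {M}
variable {N' N N'' : Type u} [AddCommGroup N'] [Module A N'] [AddCommGroup N] [Module A N]
  [AddCommGroup N''] [Module A N''] {i : ℕ}

theorem d_comp (j : ℕ) {Q : Type u} [AddCommGroup Q] [Module A Q] (z : X (A := A) M (j + 2) ⊗[A] Q) :
    (d (A := A) M j).rTensor Q ((d (A := A) M (j + 1)).rTensor Q z) = 0 := by
  rw [← LinearMap.rTensor_comp_apply, show d (A := A) M j ∘ₗ d M (j + 1) = 0 from
    LinearMap.ext fun x => ((isRes M).exact j).apply_apply_eq_zero x, LinearMap.rTensor_zero, LinearMap.zero_apply]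

theorem comm_map {P₁ P₂ Q₁ Q₂ : Type u} [AddCommGroup P₁] [Module A P₁] [AddCommGroup P₂] [Module A P₂]
    [AddCommGroup Q₁] [Module A Q₁] [AddCommGroup Q₂] [Module A Q₂] (a : P₁ →ₗ[A] P₂) (b : Q₁ →ₗ[A] Q₂)
    (x : P₁ ⊗[A] Q₁) : a.rTensor Q₂ (b.lTensor P₁ x) = b.lTensor P₂ (a.rTensor Q₁ x) := by
  rw [← LinearMap.comp_apply, LinearMap.rTensor_comp_lTensor, ← LinearMap.lTensor_comp_rTensor,
    LinearMap.comp_apply]

theorem Van.congr (h : Van A M N i) (e : N ≃ₗ[A] N') : Van A M N' i := by
  intro x hx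
  obtain ⟨x, rfl⟩ := LinearMap.lTensor_surjective _ e.surjective x
  rw [show (d (A := A) M i).rTensor N' (e.toLinearMap.lTensor _ x) = _ from comm_map _ _ _] at hx
  obtain ⟨z, hz⟩ := h x ((LinearEquiv.lTensor _ e).injective (hx.trans (map_zero _).symm))
  exact ⟨e.toLinearMap.lTensor _ z, by rw [comm_map, hz]⟩

section ShortExact

variable {f : N' →ₗ[A] N} {g : N →ₗ[A] N''} (hf : Function.Injective f) (hg : Function.Surjective g)
  (hfg : Function.Exact f g)
include hf hg hfg

theorem Van.middle (h' : Van A M N' i) (h'' : Van A M N'' i) : Van A M N i := by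
  intro x hx
  obtain ⟨z'', hz''⟩ := h'' (g.lTensor _ x) (by rw [comm_map, hx, map_zero])
  obtain ⟨z, rfl⟩ := LinearMap.lTensor_surjective _ hg z''
  rw [comm_map] at hz''
  obtain ⟨y, hy⟩ := (lTensor_exact (X (A := A) M (i + 1)) hfg hg
    (x - (d M (i + 1)).rTensor N z)).mp (by rw [map_sub, hz'', sub_self])
  have hdy : (d (A := A) M i).rTensor N' y = 0 := by
    refine Module.Flat.lTensor_preserves_injective_linearMap f hf ?_
    rw [map_zero, ← comm_map, hy, map_sub, hx, d_comp, sub_zero]
  obtain ⟨w, rfl⟩ := h' y hdy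
  refine ⟨z + f.lTensor _ w, ?_⟩
  rw [map_add, comm_map, hy, add_sub_cancel]

theorem Van.left (h : Van A M N i) (h'' : Van A M N'' (i + 1)) : Van A M N' i := by
  intro y hy
  obtain ⟨z, hz⟩ := h (f.lTensor _ y) (by rw [comm_map, hy, map_zero])
  obtain ⟨w'', hw''⟩ := h'' (g.lTensor _ z) (by
    rw [comm_map, hz, ← LinearMap.lTensor_comp_apply, hfg.linearMap_comp_eq_zero, LinearMap.lTensor_zero,
      LinearMap.zero_apply])
  obtain ⟨w, rfl⟩ := LinearMap.lTensor_surjective _ hg w''
  rw [comm_map] at hw''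
  obtain ⟨u, hu⟩ := (lTensor_exact (X (A := A) M (i + 2)) hfg hg
    (z - (d M (i + 2)).rTensor N w)).mp (by rw [map_sub, hw'', sub_self])
  refine ⟨u, Module.Flat.lTensor_preserves_injective_linearMap f hf ?_⟩
  rw [← comm_map, hu, map_sub, hz, d_comp, sub_zero]

theorem Van.right (h : Van A M N (i + 1)) (h' : Van A M N' i) : Van A M N'' (i + 1) := by
  intro x'' hx''
  obtain ⟨x, rfl⟩ := LinearMap.lTensor_surjective _ hg x''
  rw [comm_map] at hx''
  obtain ⟨y, hy⟩ := (lTensor_exact (X (A := A) M (i + 1)) hfg hg _).mp hx''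
  have hdy : (d (A := A) M i).rTensor N' y = 0 := by
    refine Module.Flat.lTensor_preserves_injective_linearMap f hf ?_
    rw [map_zero, ← comm_map, hy, d_comp]
  obtain ⟨w, rfl⟩ := h' y hdy
  obtain ⟨z, hz⟩ := h (x - f.lTensor _ w) (by rw [map_sub, comm_map, hy, sub_self])
  refine ⟨g.lTensor _ z, ?_⟩
  rw [comm_map, hz, map_sub, ← LinearMap.lTensor_comp_apply, hfg.linearMap_comp_eq_zero,
    LinearMap.lTensor_zero, LinearMap.zero_apply, sub_zero]

/-- The bottom of the long exact sequence. -/
theorem Van.right_zero (h : Van A M N 0) (hinj : Function.Injective (f.lTensor M)) : Van A M N'' 0 := by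
  intro x'' hx''
  obtain ⟨x, rfl⟩ := LinearMap.lTensor_surjective _ hg x''
  rw [comm_map] at hx''
  obtain ⟨y, hy⟩ := (lTensor_exact (X (A := A) M 0) hfg hg _).mp hx''
  have he : (eps (A := A) M).rTensor N' y = 0 := by
    refine hinj ?_
    rw [map_zero, ← comm_map, hy]
    exact (rTensor_exact N (exact_eps M) (eps_surjective M)).apply_apply_eq_zero x
  obtain ⟨u, rfl⟩ := (rTensor_exact N' (exact_eps M) (eps_surjective M) _).mp he
  obtain ⟨z, hz⟩ := h (x - f.lTensor _ u) (by rw [map_sub, comm_map, hy, sub_self])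
  refine ⟨g.lTensor _ z, ?_⟩
  rw [comm_map, hz, map_sub, ← LinearMap.lTensor_comp_apply, hfg.linearMap_comp_eq_zero,
    LinearMap.lTensor_zero, LinearMap.zero_apply, sub_zero]

theorem Van.injective (h'' : Van A M N'' 0) : Function.Injective (f.lTensor M) := by
  rw [injective_iff_map_eq_zero]
  intro v hv
  obtain ⟨y, rfl⟩ := LinearMap.rTensor_surjective N' (eps_surjective (A := A) M) v
  rw [← comm_map] at hv
  obtain ⟨z, hz⟩ := (rTensor_exact N (exact_eps M) (eps_surjective M) _).mp hv
  obtain ⟨w'', hw''⟩ := h'' (g.lTensor _ z) (by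
    rw [comm_map, hz, ← LinearMap.lTensor_comp_apply, hfg.linearMap_comp_eq_zero, LinearMap.lTensor_zero,
      LinearMap.zero_apply])
  obtain ⟨w, rfl⟩ := LinearMap.lTensor_surjective _ hg w''
  rw [comm_map] at hw''
  obtain ⟨u, hu⟩ := (lTensor_exact (X (A := A) M 1) hfg hg
    (z - (d M 1).rTensor N w)).mp (by rw [map_sub, hw'', sub_self])
  have hy : y = (d (A := A) M 0).rTensor N' u := by
    refine Module.Flat.lTensor_preserves_injective_linearMap f hf ?_
    rw [← comm_map, hu, map_sub, hz, d_comp, sub_zero]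
  rw [hy]
  exact (rTensor_exact N' (exact_eps M) (eps_surjective M)).apply_apply_eq_zero u

end ShortExact

theorem van_of_flat_right (Q : Type u) [AddCommGroup Q] [Module A Q] [Module.Flat A Q] (i : ℕ) :
    Van A M Q i :=
  (isZero_tor_iff M Q i).mp (Groth.L28.TorFacts.isZero_of_flat_right (ModuleCat.of A M) (ModuleCat.of A Q) i)

theorem van_of_flat_left [Module.Flat A M] (Q : Type u) [AddCommGroup Q] [Module A Q] (i : ℕ) :
    Van A M Q i :=
  (isZero_tor_iff M Q i).mp (Groth.L28.TorFacts.isZero_of_flat_left (ModuleCat.of A M) (ModuleCat.of A Q) i)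

theorem Van.finsupp {Q : Type u} [AddCommGroup Q] [Module A Q] (h : Van A M Q i) (ι : Type u) :
    Van A M (ι →₀ Q) i := by
  classical
  intro x hx
  let φ : ∀ j, X (A := A) M j ⊗[A] (ι →₀ Q) ≃ₗ[A] (ι →₀ X (A := A) M j ⊗[A] Q) := fun j =>
    TensorProduct.finsuppRight A A _ Q ι
  have hcomm : ∀ j y a, φ j ((d M j).rTensor _ y) a = (d (A := A) M j).rTensor Q (φ (j + 1) y a) := by
    intro j y a
    simp only [φ, TensorProduct.finsuppRight_apply]
    exact (comm_map _ _ _).symm
  choose z hz using fun a => h (φ (i + 1) x a) (by rw [← hcomm, hx, map_zero, Finsupp.zero_apply])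
  let Z : ι →₀ X (A := A) M (i + 2) ⊗[A] Q :=
    Finsupp.onFinset (φ (i + 1) x).support (fun a => if a ∈ (φ (i + 1) x).support then z a else 0)
      fun a ha => by by_contra hn; simp [hn] at ha
  refine ⟨(φ (i + 2)).symm Z, (φ (i + 1)).injective (Finsupp.ext fun a => ?_)⟩
  rw [hcomm, LinearEquiv.apply_symm_apply, Finsupp.onFinset_apply]
  split_ifs with ha
  · exact hz a
  · rw [map_zero, Finsupp.notMem_support_iff.mp ha]

/-- Vanishing passes to directed unions. -/
theorem van_of_forall_exists {Q : Type u} [AddCommGroup Q] [Module A Q] {κ : Type u} [Nonempty κ]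
    (S : κ → Submodule A Q) (hdir : Directed (· ≤ ·) S) (hcov : ∀ q, ∃ k, q ∈ S k)
    (h : ∀ k, Van A M (S k) i) : Van A M Q i := by
  intro x hx
  have hlift : ∀ y : X (A := A) M (i + 1) ⊗[A] Q, ∃ k, ∃ y' : _ ⊗[A] S k, (S k).subtype.lTensor _ y' = y := by
    intro y
    induction y using TensorProduct.induction_on with
    | zero => exact ⟨Classical.arbitrary κ, 0, map_zero _⟩
    | tmul p q => obtain ⟨k, hk⟩ := hcov q; exact ⟨k, p ⊗ₜ ⟨q, hk⟩, rfl⟩
    | add a b ha hb =>
      obtain ⟨k, a, rfl⟩ := ha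
      obtain ⟨l, b, rfl⟩ := hb
      obtain ⟨m, hkm, hlm⟩ := hdir k l
      refine ⟨m, (Submodule.inclusion hkm).lTensor _ a + (Submodule.inclusion hlm).lTensor _ b, ?_⟩
      rw [map_add, ← LinearMap.lTensor_comp_apply, ← LinearMap.lTensor_comp_apply]
      rfl
  obtain ⟨k, x, rfl⟩ := hlift x
  rw [comm_map] at hx
  obtain ⟨z, hz⟩ := h k x ((Module.Flat.lTensor_preserves_injective_linearMap _ (S k).subtype_injective)
    (hx.trans (map_zero _).symm))
  exact ⟨(S k).subtype.lTensor _ z, by rw [comm_map, hz]⟩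

/-- Modules over an algebra `B` with `B ⊗ M` flat. -/
theorem van_of_algebra (B : Type u) [CommRing B] [Algebra A B] [Module.Flat B (B ⊗[A] M)] {k : ℕ}
    (h : ∀ j < k, Van A M B j) :
    ∀ j < k, ∀ (Q : Type u) [AddCommGroup Q] [Module A Q] [Module B Q] [IsScalarTower A B Q], Van A M Q j := by
  intro j
  induction j with
  | zero =>
    intro hj Q _ _ _ _
    let g : (Q →₀ B) →ₗ[B] Q := Finsupp.linearCombination B _root_.id
    have hg : Function.Surjective g := Finsupp.linearCombination_id_surjective B Q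
    let f₀ : ↥(LinearMap.ker g) →ₗ[A] (Q →₀ B) := (LinearMap.ker g).subtype.restrictScalars A
    let g₀ : (Q →₀ B) →ₗ[A] Q := g.restrictScalars A
    refine Van.right_zero (N' := ↥(LinearMap.ker g)) (show Function.Injective f₀ from Subtype.val_injective) (show Function.Surjective g₀ from hg)
      (show Function.Exact f₀ g₀ from fun x => LinearMap.exact_subtype_ker_map g x) ((h 0 hj).finsupp Q) ?_
    have hflat := Module.Flat.rTensor_preserves_injective_linearMap (R := B) (M := B ⊗[A] M)
      (LinearMap.ker g).subtype Subtype.val_injective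
    let e₁ := (AlgebraTensorModule.cancelBaseChange A B B (LinearMap.ker g) M).restrictScalars A
    let e₂ := (AlgebraTensorModule.cancelBaseChange A B B (Q →₀ B) M).restrictScalars A
    have hsq : ∀ v, ((LinearMap.ker g).subtype.restrictScalars A).rTensor M (e₁ v) =
        e₂ ((LinearMap.ker g).subtype.rTensor (B ⊗[A] M) v) := by
      intro v
      induction v using TensorProduct.induction_on with
      | zero => simp
      | add a b ha hb => simp only [map_add, ha, hb]
      | tmul q y =>
        induction y using TensorProduct.induction_on with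
        | zero => simp
        | add a b ha hb => simp only [TensorProduct.tmul_add, map_add, ha, hb]
        | tmul b m => rfl
    rw [LinearMap.lTensor_inj_iff_rTensor_inj]
    intro a b hab
    obtain ⟨a, rfl⟩ := e₁.surjective a
    obtain ⟨b, rfl⟩ := e₁.surjective b
    rw [hsq, hsq] at hab
    rw [hflat (e₂.injective hab)]
  | succ j ih =>
    intro hj Q _ _ _ _
    let g : (Q →₀ B) →ₗ[B] Q := Finsupp.linearCombination B _root_.id
    have hg : Function.Surjective g := Finsupp.linearCombination_id_surjective B Q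
    let f₀ : ↥(LinearMap.ker g) →ₗ[A] (Q →₀ B) := (LinearMap.ker g).subtype.restrictScalars A
    let g₀ : (Q →₀ B) →ₗ[A] Q := g.restrictScalars A
    exact Van.right (N' := ↥(LinearMap.ker g)) (show Function.Injective f₀ from Subtype.val_injective) (show Function.Surjective g₀ from hg)
      (show Function.Exact f₀ g₀ from fun x => LinearMap.exact_subtype_ker_map g x) ((h (j + 1) hj).finsupp Q)
      (ih (by omega) (LinearMap.ker g))

theorem flat_iff_van_quotient :
    Module.Flat A M ↔ ∀ I : Ideal A, I.FG → Van A M (A ⧸ I) 0 := by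
  refine ⟨fun h I _ => van_of_flat_left _ 0, fun h => Module.Flat.iff_lTensor_injective.mpr fun {I} hI => ?_⟩
  exact Van.injective Subtype.val_injective (Submodule.mkQ_surjective I) (LinearMap.exact_subtype_mkQ I) (h I hI)

end L02.CAlg.TorV
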